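import Mathlib

/-!
# Closed points of images of constructible sets in Jacobson spectra
-/

universe u

namespace GrothLib.JacobImg

open PrimeSpectrum Topology

variable {R S : Type u} [CommRing R] [CommRing S]

theorem exists_closedPoint [IsJacobsonRing S] {E : Set (PrimeSpectrum S)} (hE : IsConstructible E)
    {C : Set (PrimeSpectrum S)} (hC : IsLocallyClosed C) (h : (E ∩ C).Nonempty) :
    ∃ y ∈ E ∩ C, IsClosed ({y} : Set (PrimeSpectrum S)) := by
  induction E, hE using Topology.IsConstructible.induction_of_isTopologicalBasis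
    (b := fun r : S => ((PrimeSpectrum.basicOpen r : TopologicalSpace.Opens (PrimeSpectrum S)) : Set (PrimeSpectrum S))) with
  | basis => exact isTopologicalBasis_basic_opens
  | isCompact_basis i => exact PrimeSpectrum.isCompact_basicOpen i
  | sdiff i s hs =>
    have hlc : IsLocallyClosed (((basicOpen i : Set (PrimeSpectrum S)) \ ⋃ j ∈ s, (basicOpen j : Set (PrimeSpectrum S))) ∩ C) := by
      refine IsLocallyClosed.inter ?_ hC
      rw [Set.diff_eq]
      exact (basicOpen i).isOpen.isLocallyClosed.inter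
        (isOpen_biUnion fun j _ => (basicOpen j).isOpen).isClosed_compl.isLocallyClosed
    obtain ⟨y, hy, hy'⟩ := nonempty_inter_closedPoints h hlc
    exact ⟨y, hy, hy'⟩
  | union s hs t ht ihs iht =>
    rw [Set.union_inter_distrib_right, Set.union_nonempty] at h
    rcases h with h | h
    · obtain ⟨y, hy, hy'⟩ := ihs h
      exact ⟨y, ⟨Or.inl hy.1, hy.2⟩, hy'⟩
    · obtain ⟨y, hy, hy'⟩ := iht h
      exact ⟨y, ⟨Or.inr hy.1, hy.2⟩, hy'⟩

theorem isClosed_of_closure_inter_eq [IsJacobsonRing S] {E : Set (PrimeSpectrum S)} (hE : IsConstructible E)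
    {y : PrimeSpectrum S} (hy : closure {y} ∩ E = {y}) : IsClosed ({y} : Set (PrimeSpectrum S)) := by
  have hne : (E ∩ closure {y}).Nonempty := ⟨y, by rw [Set.inter_comm, hy]; exact rfl⟩
  obtain ⟨z, hz, hz'⟩ := exists_closedPoint hE isClosed_closure.isLocallyClosed hne
  rw [Set.inter_comm, hy] at hz
  exact hz ▸ hz'

theorem closedPoints_eq [IsJacobsonRing S] {E : Set (PrimeSpectrum S)} (hE : IsConstructible E) :
    {y | y ∈ E ∧ closure {y} ∩ E = {y}} = {y | y ∈ E ∧ IsClosed ({y} : Set (PrimeSpectrum S))} := by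
  ext y
  refine ⟨fun ⟨h1, h2⟩ => ⟨h1, isClosed_of_closure_inter_eq hE h2⟩, fun ⟨h1, h2⟩ => ⟨h1, ?_⟩⟩
  rw [h2.closure_eq, Set.inter_eq_left, Set.singleton_subset_iff]
  exact h1

variable [Algebra R S]

theorem isClosed_comap [IsJacobsonRing R] [Algebra.FiniteType R S] {y : PrimeSpectrum S}
    (hy : IsClosed ({y} : Set (PrimeSpectrum S))) :
    IsClosed ({comap (algebraMap R S) y} : Set (PrimeSpectrum R)) := by
  rw [isClosed_singleton_iff_isMaximal] at hy ⊢
  haveI := hy
  letI : Field (S ⧸ y.asIdeal) := Ideal.Quotient.field _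
  haveI : Algebra.FiniteType R (S ⧸ y.asIdeal) :=
    Algebra.FiniteType.of_surjective (Ideal.Quotient.mkₐ R y.asIdeal) (Ideal.Quotient.mkₐ_surjective R _)
  have hfin : (algebraMap R (S ⧸ y.asIdeal)).Finite := RingHom.finite_iff_finiteType_of_isJacobsonRing.mpr
    (RingHom.finiteType_algebraMap.mpr ‹_›)
  haveI : Module.Finite R (S ⧸ y.asIdeal) := RingHom.finite_algebraMap.mp hfin
  haveI : Algebra.IsIntegral R (S ⧸ y.asIdeal) := Algebra.IsIntegral.of_finite R _
  have h := Ideal.isMaximal_comap_of_isIntegral_of_isMaximal (R := R) (⊥ : Ideal (S ⧸ y.asIdeal))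
  rwa [IsScalarTower.algebraMap_eq R S (S ⧸ y.asIdeal), ← Ideal.comap_comap, Ideal.Quotient.algebraMap_eq,
    ← RingHom.ker_eq_comap_bot, Ideal.mk_ker] at h

theorem exists_notMem_of_fibre_empty {E : Set (PrimeSpectrum S)} (hE : IsConstructible E) (ξ : PrimeSpectrum R)
    (h : ∀ y ∈ E, comap (algebraMap R S) y ≠ ξ) :
    ∃ g : R, g ∉ ξ.asIdeal ∧ ∀ y ∈ E, ξ ≤ comap (algebraMap R S) y → g ∈ (comap (algebraMap R S) y).asIdeal := by
  induction E, hE using Topology.IsConstructible.induction_of_isTopologicalBasis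
    (b := fun r : S => ((PrimeSpectrum.basicOpen r : TopologicalSpace.Opens (PrimeSpectrum S)) : Set (PrimeSpectrum S))) with
  | basis => exact isTopologicalBasis_basic_opens
  | isCompact_basis i => exact PrimeSpectrum.isCompact_basicOpen i
  | sdiff i s hs =>
    let J : Ideal S := ξ.asIdeal.map (algebraMap R S) ⊔ Ideal.span s
    let T : Submonoid S := Algebra.algebraMapSubmonoid S ξ.asIdeal.primeCompl ⊔ Submonoid.powers i
    by_cases hd : Disjoint (J : Set S) (T : Set S)
    · exfalso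
      obtain ⟨P, hP, hJP, hPT⟩ := Ideal.exists_le_prime_disjoint J T hd
      refine h ⟨P, hP⟩ ⟨?_, ?_⟩ ?_
      · exact fun hi => Set.disjoint_left.mp hPT hi (Submonoid.mem_sup_right (Submonoid.mem_powers i))
      · intro hu
        obtain ⟨j, hj, hju⟩ := Set.mem_iUnion₂.mp hu
        exact hju (hJP (Ideal.mem_sup_right (Ideal.subset_span hj)))
      · ext r
        rw [comap_asIdeal, Ideal.mem_comap]
        constructor
        · intro hr
          by_contra hr'
          exact Set.disjoint_left.mp hPT hr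
            (Submonoid.mem_sup_left (Algebra.mem_algebraMapSubmonoid_of_mem (⟨r, hr'⟩ : ξ.asIdeal.primeCompl)))
        · exact fun hr => hJP (Ideal.mem_sup_left (Ideal.mem_map_of_mem _ hr))
    · obtain ⟨z, hzJ, hzT⟩ := Set.not_disjoint_iff.mp hd
      obtain ⟨_, ⟨g, hg, rfl⟩, _, ⟨N, rfl⟩, rfl⟩ := Submonoid.mem_sup.mp hzT
      refine ⟨g, hg, fun y hy hle => ?_⟩
      have hJy : J ≤ y.asIdeal := by
        refine sup_le (Ideal.map_le_iff_le_comap.mpr hle) (Ideal.span_le.mpr fun j hj => ?_)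
        by_contra hjy
        exact hy.2 (Set.mem_iUnion₂.mpr ⟨j, hj, hjy⟩)
      exact (y.2.mem_or_mem (hJy hzJ)).resolve_right fun hN => hy.1 (y.2.mem_of_pow_mem N hN)
  | union s hs t ht ihs iht =>
    obtain ⟨a, ha, ha'⟩ := ihs fun y hy => h y (Or.inl hy)
    obtain ⟨b, hb, hb'⟩ := iht fun y hy => h y (Or.inr hy)
    refine ⟨a * b, fun hab => (ξ.2.mem_or_mem hab).elim ha hb, fun y hy hle => ?_⟩
    rcases hy with hy | hy
    · exact Ideal.mul_mem_right _ _ (ha' y hy hle)
    · exact Ideal.mul_mem_left _ _ (hb' y hy hle)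

end GrothLib.JacobImg
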